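import Groth.Agent.FormalFun.HomFib
import Groth.Agent.FormalFun.ClosedCut
import Groth.Agent.FormalFun.Finite
import Groth.Agent.EpiLocus.Basic
import Groth.Agent.ExtHom.Compare
import Groth.Agent.VBLib.Basic
import Groth.Agent.VBLib.Line
import Groth.Agent.Props.GenLocus
import Groth.Agent.PicLaw.Calc
import Groth.Agent.Omega.Stalks
import Groth.Agent.Props.KilledSub

/-!
# Invertible modules trivial on the thickenings of the closed fibre
-/

set_option autoImplicit false
set_option backward.isDefEq.respectTransparency false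

universe u

open CategoryTheory CategoryTheory.Limits AlgebraicGeometry TopologicalSpace Opposite Abelian
open Groth.Agent

noncomputable section

namespace Groth.Agent.PicThickTriv

open Groth.Agent.PullStalk.Sky Groth.Agent.PullStalk.Exact Groth.Agent.Props.GenLocus

variable {Y : Scheme.{u}}

/-- An epimorphism from `O` onto an invertible module is an isomorphism. -/
theorem isIso_of_epi {L : Y.Modules} (hL : PicF.IsInvertible L) (s : Coh.structureModule Y ⟶ L) [Epi s] :
    IsIso s := by
  refine Omega.Stalks.isIso_of_stalk fun x => ⟨?_, stalk_surjective s x⟩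
  have gen : ∀ {N : Y.Modules}, PicF.IsInvertible N →
      Nonempty ((Y.presheaf.stalk x) ≃ₗ[Y.presheaf.stalk x] N.presheaf.stalk x) := fun {N} hN => by
    obtain ⟨U, e, hx, he⟩ := exists_isGen hN x
    exact ⟨LinearEquiv.ofBijective _ (PicLaw.bijective_toSpanSingleton_germ he x hx)⟩
  obtain ⟨E₀⟩ := gen (PicLoc.isInvertible_structureModule Y)
  obtain ⟨E⟩ := gen hL
  let g : Y.presheaf.stalk x →ₗ[Y.presheaf.stalk x] Y.presheaf.stalk x :=
    E.symm.toLinearMap ∘ₗ stalkLin s x ∘ₗ E₀.toLinearMap
  have hs : Function.Surjective g := E.symm.surjective.comp ((stalk_surjective s x).comp E₀.surjective)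
  have hg : Function.Injective g := OrzechProperty.injective_of_surjective_endomorphism g hs
  intro a b h
  obtain ⟨a', rfl⟩ := E₀.surjective a
  obtain ⟨b', rfl⟩ := E₀.surjective b
  exact congrArg E₀ (hg (congrArg E.symm h))

/-- The main criterion. -/
theorem main {B : Type u} [CommRing B] [IsNoetherianRing B] [IsLocalRing B] (I : Ideal B)
    (hI : I ≤ IsLocalRing.maximalIdeal B) (f : Y ⟶ Spec (CommRingCat.of B)) [IsProper f]
    (L : Y.Modules) (hL : PicF.IsInvertible L)
    (hn : ∀ n : ℕ, Nonempty ((Scheme.Modules.pullback (CohB1.thickι f I n)).obj L ≅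
      Coh.structureModule (CohB1.thick f I n))) :
    Nonempty (L ≅ Coh.structureModule Y) := by
  letI : Y.Over (Spec (CommRingCat.of B)) := ⟨f⟩
  haveI : IsProper (Y ↘ Spec (CommRingCat.of B)) := ‹_›
  haveI := FormalFun.isLocallyNoetherian_of_proper B Y
  haveI := FormalFun.compactSpace_of_proper B Y
  have hC : Coh.IsCoh L := VBLib.isCoh_of_ofRank (VBLib.ofRank_one_of_invertible hL)
  haveI : L.IsQuasicoherent := hC.1
  let O := Coh.structureModule Y
  -- global sections are maps out of `O`
  obtain ⟨θ₀, hθ₀⟩ := ExtHom.exists_constUnit (Opens.grothendieckTopology Y) Y.ringCatSheaf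
  let e : ∀ N : Y.Modules, (O ⟶ N) ≃ Coh.HH Y N 0 := fun N =>
    (Equiv.ofBijective _ (hθ₀ N)).trans Ext.homEquiv₀.symm
  have he : ∀ {N N' : Y.Modules} (φ : N ⟶ N') (g : O ⟶ N),
      e N' (g ≫ φ) = CohLin.hMap φ 0 (e N g) := by
    intro N N' φ g
    show Ext.mk₀ (θ₀ ≫ (SheafOfModules.toSheaf Y.ringCatSheaf).map (g ≫ φ)) =
      (Ext.mk₀ (θ₀ ≫ (SheafOfModules.toSheaf Y.ringCatSheaf).map g)).comp (Ext.mk₀ (CohLin.abMap φ)) (add_zero 0)
    refine Eq.trans ?_ (Ext.mk₀_comp_mk₀ _ _).symm
    refine congrArg Ext.mk₀ ?_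
    rw [Functor.map_comp, Category.assoc]
    rfl
  obtain ⟨c, hc⟩ := FormalFun.mittag_leffler I (FormalFun.finiteCoh_of_proper B Y) hC 0
  -- trivialisation at level `c`
  let i := CohB1.thickι f I c
  haveI : IsClosedImmersion (CohB1.specQuot I c) :=
    IsClosedImmersion.spec_of_surjective _ Ideal.Quotient.mk_surjective
  have hpb : IsPullback i (CohB1.thickToBase f I c) (Y ↘ Spec (CommRingCat.of B)) (CohB1.specQuot I c) :=
    IsPullback.of_hasPullback _ _
  haveI : IsClosedImmersion i := MorphismProperty.of_isPullback (P := @IsClosedImmersion) hpb.flip ‹_›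
  have hcut := FormalFun.isCut_of_isPullback i I c hpb
  let adj := Scheme.Modules.pullbackPushforwardAdjunction i
  obtain ⟨θL, hθL⟩ := hcut.exists_iso_unit L
  obtain ⟨θO, hθO⟩ := hcut.exists_iso_unit O
  obtain ⟨φ⟩ := hn c
  let ψ : (Scheme.Modules.pullback i).obj O ≅ (Scheme.Modules.pullback i).obj L :=
    QCoh.pullbackUnitIso i ≪≫ φ.symm
  let u : O ⟶ Formal.modPow I (c + 1) L :=
    Formal.modPowπ I (c + 1) O ≫ θO.hom ≫ (Scheme.Modules.pushforward i).map ψ.hom ≫ θL.inv
  haveI : Epi (Formal.modPowπ I (c + 1) O) := inferInstanceAs (Epi (cokernel.π _))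
  haveI : Epi u := inferInstanceAs (Epi (_ ≫ _))
  let trc := (Formal.completion I L).map (homOfLE (Nat.zero_le c)).op
  have hfun : ∀ k : ℕ, Formal.modPowπ I (k + 1) L ≫ (Formal.completion I L).map (homOfLE (Nat.zero_le k)).op =
      Formal.modPowπ I 1 L := by
    intro k
    induction k with
    | zero =>
      rw [show (homOfLE (Nat.zero_le 0)).op = 𝟙 (op 0) from rfl, CategoryTheory.Functor.map_id]
      exact Category.comp_id _
    | succ k ih =>
      rw [show (homOfLE (Nat.zero_le (k + 1))).op = (homOfLE (Nat.le_succ k)).op ≫ (homOfLE (Nat.zero_le k)).op from rfl,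
        Functor.map_comp, FormalFun.completion_map_succ, ← Category.assoc]
      exact (congrArg (· ≫ _) (Formal.modPowπ_trans I (k + 1) L)).trans ih
  haveI : Epi (Formal.modPowπ I 1 L) := inferInstanceAs (Epi (cokernel.π _))
  haveI : Epi trc := epi_of_epi_fac (hfun c)
  let w : O ⟶ Formal.modPow I 1 L := u ≫ trc
  haveI : Epi w := inferInstanceAs (Epi (_ ≫ _))
  obtain ⟨z, hz⟩ := (hc 0 c (Nat.zero_le c) (by omega)).le ⟨e _ u, rfl⟩
  let s : O ⟶ L := (e L).symm z
  have hs : s ≫ Formal.modPowπ I 1 L = w := by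
    apply (e _).injective
    rw [he, Equiv.apply_symm_apply]
    exact hz.trans (he trc u).symm
  -- surjective on the closed fibre
  let m := IsLocalRing.maximalIdeal B
  haveI := FormalFun.isClosedImmersion_cι B Y
  let ι := FormalFun.cι B Y
  obtain ⟨ε, hε⟩ := FormalFun.exists_iso_unit B Y L
  let d : Formal.modPow I 1 L ⟶ Formal.modPow m 1 L :=
    cokernel.desc _ (Formal.modPowπ m 1 L) (Formal.smulFamily_π_of_le (Ideal.pow_right_mono hI 1) L)
  have hd : Formal.modPowπ I 1 L ≫ d = Formal.modPowπ m 1 L := cokernel.π_desc _ _ _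
  haveI : Epi (Formal.modPowπ m 1 L) := inferInstanceAs (Epi (cokernel.π _))
  haveI : Epi d := epi_of_epi_fac hd
  let adjf := Scheme.Modules.pullbackPushforwardAdjunction ι
  haveI : Epi (s ≫ adjf.unit.app L) := by
    rw [← hε, ← hd, Category.assoc, reassoc_of% hs]
    infer_instance
  have hnat : s ≫ adjf.unit.app L = adjf.unit.app O ≫
      (Scheme.Modules.pushforward ι).map ((Scheme.Modules.pullback ι).map s) := adjf.unit.naturality s
  haveI : Epi ((Scheme.Modules.pushforward ι).map ((Scheme.Modules.pullback ι).map s)) :=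
    epi_of_epi_fac hnat.symm
  haveI : (Scheme.Modules.pushforward ι).Faithful := by
    haveI : ∀ M, Epi (adjf.counit.app M) := fun M => by
      haveI : IsIso (adjf.counit.app M) := Props.KilledSub.isIso_counit ι M
      infer_instance
    exact adjf.faithful_R_of_epi_counit_app
  have hepi : Epi ((Scheme.Modules.pullback ι).map s) := Functor.epi_of_epi_map (Scheme.Modules.pushforward ι) inferInstance
  -- hence everywhere
  obtain ⟨U, hU⟩ := EpiLocus.exists_opens_epi_pullback
    (VBLib.isCoh_of_ofRank (VBLib.ofRank_one_of_invertible (PicLoc.isInvertible_structureModule Y))).1 hC s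
  have h0 : Set.range ι.base ⊆ (U : Set Y) := (hU _ ι).2 hepi
  have htop : (U : Set Y) = Set.univ := by
    by_contra hne
    obtain ⟨y, hy⟩ := (Set.ne_univ_iff_exists_notMem _).1 hne
    have hcl : IsClosed ((fun x => f x) '' (U : Set Y)ᶜ) := f.isClosedMap _ U.isOpen.isClosed_compl
    have hspec : (f y) ⤳ IsLocalRing.closedPoint B := IsLocalRing.specializes_closedPoint _
    obtain ⟨y', hy', hyc⟩ := hspec.mem_closed hcl ⟨y, hy, rfl⟩
    exact hy' (h0 (((Y ↘ Spec (CommRingCat.of B)).range_fiberι (IsLocalRing.closedPoint B)).ge hyc))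
  haveI : Epi ((Scheme.Modules.pullback (𝟙 Y)).map s) := (hU Y (𝟙 Y)).1 (by rw [htop]; exact Set.subset_univ _)
  haveI : Epi s := by
    rw [show s = (Scheme.Modules.pullbackId Y).inv.app O ≫ (Scheme.Modules.pullback (𝟙 Y)).map s ≫
      (Scheme.Modules.pullbackId Y).hom.app L by
        rw [(Scheme.Modules.pullbackId Y).hom.naturality, Iso.inv_hom_id_app_assoc]; rfl]
    infer_instance
  haveI := isIso_of_epi hL s
  exact ⟨(asIso s).symm⟩

end Groth.Agent.PicThickTriv
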